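import Cfsg.Prelude.Def_Transfer
import Mathlib.GroupTheory.Nilpotent
import Mathlib.GroupTheory.PGroup
import Mathlib.GroupTheory.Solvable

/-!
Groups all of whose nonabelian subgroups are self-normalizing: the basic coprime lemma.
-/

set_option autoImplicit false
set_option linter.style.haveILetI false

namespace Cfsg.Agent.SelfNormNonabelian

open Subgroup
open scoped commutatorElement

variable {G : Type*} [Group G]

/-- Every nonabelian subgroup is self-normalizing. -/
def SelfNorm (G : Type*) [Group G] : Prop :=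
  ∀ H : Subgroup G, ¬ IsMulCommutative H → normalizer (H : Set G) = H

theorem mem_normalizer_of_mem_center {z : G} (hz : z ∈ center G) (H : Subgroup G) :
    z ∈ normalizer (H : Set G) := by
  rw [mem_normalizer_iff]
  intro h
  rw [(mem_center_iff.1 hz h).symm, mul_inv_cancel_right]

theorem isMulCommutative_of_le {H K : Subgroup G} (h : H ≤ K) (hK : IsMulCommutative K) :
    IsMulCommutative H :=
  ⟨⟨fun a b => Subtype.ext
    (congrArg Subtype.val (hK.is_comm.comm ⟨a, h a.2⟩ ⟨b, h b.2⟩) :)⟩⟩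

theorem comm_of_mem {H : Subgroup G} (hH : IsMulCommutative H) {a b : G} (ha : a ∈ H)
    (hb : b ∈ H) : a * b = b * a :=
  (congrArg Subtype.val (hH.is_comm.comm ⟨a, ha⟩ ⟨b, hb⟩) :)

theorem normal_abelian (hS : SelfNorm G) {N : Subgroup G} (hN : N.Normal) (hne : N ≠ ⊤) :
    IsMulCommutative N := by
  by_contra h
  exact hne ((hS N h).symm.trans (normalizer_eq_top_iff.2 hN))

/-- The subgroup `{[x,a] | a ∈ A}` for `x` normalizing the abelian group `A`. -/
def commRange (A : Subgroup G) (hA : IsMulCommutative A) (x : G)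
    (hx : x ∈ normalizer (A : Set G)) : Subgroup G where
  carrier := {d | ∃ a ∈ A, ⁅x, a⁆ = d}
  one_mem' := ⟨1, one_mem A, by simp⟩
  mul_mem' := by
    rintro _ _ ⟨a, ha, rfl⟩ ⟨b, hb, rfl⟩
    refine ⟨a * b, mul_mem ha hb, ?_⟩
    have h1 : x * b * x⁻¹ ∈ A := (mem_normalizer_iff.1 hx b).1 hb
    have h2 : x * b * x⁻¹ * b⁻¹ ∈ A := mul_mem h1 (inv_mem hb)
    rw [commutatorElement_def, commutatorElement_def, commutatorElement_def,
      show x * (a * b) * x⁻¹ * (a * b)⁻¹ = x * a * x⁻¹ * (x * b * x⁻¹ * b⁻¹ * a⁻¹) by group,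
      comm_of_mem hA h2 (inv_mem ha)]
    group
  inv_mem' := by
    rintro _ ⟨a, ha, rfl⟩
    refine ⟨a⁻¹, inv_mem ha, ?_⟩
    have h1 : x * a⁻¹ * x⁻¹ ∈ A := (mem_normalizer_iff.1 hx _).1 (inv_mem ha)
    rw [commutatorElement_def, commutatorElement_def, inv_inv, comm_of_mem hA h1 ha]
    group

theorem commRange_le {A : Subgroup G} (hA : IsMulCommutative A) {x : G}
    (hx : x ∈ normalizer (A : Set G)) : commRange A hA x hx ≤ A := by
  rintro _ ⟨a, ha, rfl⟩
  exact mul_mem ((mem_normalizer_iff.1 hx a).1 ha) (inv_mem ha)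

variable [Finite G]
set_option linter.unusedSectionVars false

theorem conj_mem_commRange {A : Subgroup G} (hA : IsMulCommutative A) {x : G}
    (hx : x ∈ normalizer (A : Set G)) : x ∈ normalizer (commRange A hA x hx : Set G) := by
  refine mem_normalizer_iff.2 fun d => ?_
  have hfwd : ∀ d, d ∈ commRange A hA x hx → x * d * x⁻¹ ∈ commRange A hA x hx := by
    rintro _ ⟨a, ha, rfl⟩
    exact ⟨x * a * x⁻¹, (mem_normalizer_iff.1 hx a).1 ha, by
      simp [commutatorElement_def, mul_assoc]⟩
  refine ⟨hfwd d, fun h => ?_⟩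
  obtain ⟨a, ha, e⟩ := h
  refine ⟨x⁻¹ * a * x, ?_, ?_⟩
  · have := (mem_normalizer_iff.1 (inv_mem hx) a).1 ha
    rwa [inv_inv] at this
  · rw [show d = x⁻¹ * (x * d * x⁻¹) * x by group, ← e, commutatorElement_def,
      commutatorElement_def]
    group

/-- Coprime action: a commutator centralised by the acting element is trivial. -/
theorem eq_one_of_comm_fixed {A : Subgroup G} {x : G} (hco : (orderOf x).Coprime (Nat.card A))
    {d a : G} (hd : d ∈ A) (hxd : x * d = d * x) (e : ⁅x, a⁆ = d) : d = 1 := by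
  have e' : x * a = d * (a * x) := by rw [← e, commutatorElement_def]; group
  have key : ∀ n : ℕ, x ^ n * a = d ^ n * (a * x ^ n) := by
    intro n
    induction n with
    | zero => simp
    | succ n ih =>
      calc x ^ (n + 1) * a = x ^ n * d * (a * x) := by rw [pow_succ, mul_assoc, e', ← mul_assoc]
        _ = d * (x ^ n * a) * x := by
          rw [((show Commute x d from hxd).pow_left n).eq]; group
        _ = d ^ (n + 1) * (a * x ^ (n + 1)) := by
          rw [ih, pow_succ', pow_succ]; group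
  have h1 := key (orderOf x)
  rw [pow_orderOf_eq_one, one_mul, mul_one] at h1
  have h2 : d ^ orderOf x = 1 := mul_eq_right.1 h1.symm
  have h3 : orderOf d ∣ Nat.card A := by
    rw [← orderOf_mk d hd]; exact orderOf_dvd_natCard _
  exact orderOf_eq_one_iff.1 (Nat.eq_one_of_dvd_coprimes hco
    (orderOf_dvd_of_pow_eq_one h2) h3)

/-- A central element lying in `⟨x⟩[A,x]` lies in `⟨x⟩`, in the coprime situation. -/
theorem exists_of_mem_sup {A : Subgroup G} (hA : IsMulCommutative A) {x : G}
    (hx : x ∈ normalizer (A : Set G)) {z : G} (hz : z ∈ zpowers x ⊔ commRange A hA x hx) :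
    ∃ i : ℤ, ∃ d ∈ commRange A hA x hx, z = x ^ i * d := by
  have hle : zpowers x ≤ normalizer (commRange A hA x hx : Set G) :=
    zpowers_le.2 (conj_mem_commRange hA hx)
  rw [← SetLike.mem_coe, coe_mul_of_left_le_normalizer_right _ _ hle] at hz
  obtain ⟨u, hu, d, hd, rfl⟩ := hz
  obtain ⟨i, rfl⟩ := mem_zpowers_iff.1 hu
  exact ⟨i, d, hd, rfl⟩

theorem not_isMulCommutative_sup {A : Subgroup G} (hA : IsMulCommutative A) {x : G}
    (hx : x ∈ normalizer (A : Set G)) (hco : (orderOf x).Coprime (Nat.card A)) {a : G}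
    (ha : a ∈ A) (hne : ⁅x, a⁆ ≠ 1) :
    ¬ IsMulCommutative ↥(zpowers x ⊔ commRange A hA x hx) := by
  intro h
  have hd : ⁅x, a⁆ ∈ commRange A hA x hx := ⟨a, ha, rfl⟩
  exact hne (eq_one_of_comm_fixed hco (commRange_le hA hx hd)
    (comm_of_mem h (mem_sup_left (mem_zpowers x)) (mem_sup_right hd)) rfl)

end Cfsg.Agent.SelfNormNonabelian
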