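import Cfsg.Agent.Lib.SelfNormNonabelian.SimpleCase

/-!
# Simple groups with self-normalising non-abelian subgroups: conclusion and converse criterion
-/

set_option autoImplicit false
set_option linter.style.haveILetI false

namespace Cfsg.Agent.SelfNormNonabelian

open Subgroup
open scoped commutatorElement MatrixGroups

universe u

variable {G : Type u} [Group G]

/-- In odd order the hypothesis forces solvability. -/
theorem isSolvable_of_odd [Finite G] (hS : SelfNorm G) (hodd : Odd (Nat.card G)) :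
    Group.IsSolvable G := by
  suffices H : ∀ (n : ℕ) (K : Type u) [Group K] [Finite K], Nat.card K = n → Odd (Nat.card K) →
      SelfNorm K → Group.IsSolvable K from H _ G rfl hodd hS
  intro n
  induction n using Nat.strong_induction_on with
  | _ n IH =>
    intro K _ _ hn hK hSK
    rcases S4072.result hSK with h | h
    · exact h
    haveI := h
    by_cases hcomm : ∀ a b : K, a * b = b * a
    · exact Group.isSolvable_of_comm hcomm
    have hsolv : ∀ H : Subgroup K, H ≠ ⊤ → Group.IsSolvable H := fun H hH =>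
      IH _ (hn ▸ lt_of_le_of_ne (Nat.le_of_dvd Nat.card_pos (card_subgroup_dvd_card H))
        fun e => hH (eq_top_of_card_eq H e)) H rfl (hK.of_dvd_nat (card_subgroup_dvd_card H))
        (selfNorm_subgroup hSK H)
    refine OddOrder.CN.isSolvable_of_isCN hK fun g hg => ?_
    obtain ⟨p, hp, hpg⟩ := Nat.exists_prime_and_dvd (fun e => hg (orderOf_eq_one_iff.1 e))
    haveI := Fact.mk hp
    have hy : orderOf (g ^ (orderOf g / p)) = p := orderOf_pow_orderOf_div (orderOf_pos g).ne' hpg
    have hc := cent_comm hSK hcomm (fun P => sylow_comm hSK hcomm (Or.inr hsolv) P) hy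
    haveI : IsMulCommutative (centralizer ({g} : Set K)) :=
      isMulCommutative_of_le (fun w hw => mem_centralizer_singleton_iff.2
        ((show Commute w g from mem_centralizer_singleton_iff.1 hw).pow_right _)) hc
    letI : CommGroup (centralizer ({g} : Set K)) :=
      { (inferInstance : Group (centralizer ({g} : Set K))) with mul_comm := fun a b => IsMulCommutative.is_comm.comm a b }
    exact CommGroup.isNilpotent

/-- A non-abelian simple group with self-normalising non-abelian subgroups is `PSL_2 (2^m)`. -/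
theorem exists_psl [Finite G] [IsSimpleGroup G] (hna : ¬ IsMulCommutative G) (hS : SelfNorm G) :
    ∃ (m : ℕ) (F : Type) (_ : Field F) (_ : Fintype F), 2 ≤ m ∧ Fintype.card F = 2 ^ m ∧
      Nonempty (G ≃* PSL(2, F)) := by
  haveI : Fact (Nat.Prime 2) := ⟨Nat.prime_two⟩
  have hne : ¬ ∀ a b : G, a * b = b * a := fun h1 => hna (isMulCommutative_iff.2 h1)
  have h2 : 2 ∣ Nat.card G := by
    by_contra h
    haveI := isSolvable_of_odd hS (Nat.odd_iff.2 (by omega))
    exact hne (IsSimpleGroup.comm_iff_isSolvable.mpr inferInstance)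
  refine ThreeSizes.exists_psl hna h2 fun t ht x hx y hy => ?_
  have hc := cent_comm hS hne (fun P => sylow_comm hS hne (Or.inl rfl) P) ht
  exact comm_of_mem hc hx hy

/-- A nontrivial solvable group has a nontrivial abelian normal subgroup. -/
theorem exists_abelian_normal (G : Type u) [Group G] [Group.IsSolvable G] [Nontrivial G] :
    ∃ A : Subgroup G, A.Normal ∧ A ≠ ⊥ ∧ IsMulCommutative A := by
  classical
  obtain ⟨n, hn⟩ := (Group.isSolvable_def G).1 inferInstance
  have hex : ∃ n, derivedSeries G n = ⊥ := ⟨n, hn⟩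
  obtain ⟨m, hm⟩ : ∃ m, Nat.find hex = m + 1 := by
    refine Nat.exists_eq_succ_of_ne_zero fun h => ?_
    have := Nat.find_spec hex
    rw [h, derivedSeries_zero] at this
    exact top_ne_bot this
  refine ⟨derivedSeries G m, derivedSeries_normal G m, fun h => ?_, ⟨⟨fun a b => Subtype.ext ?_⟩⟩⟩
  · have := Nat.find_min' hex h
    omega
  · refine commutatorElement_eq_one_iff_mul_comm.1 ((Subgroup.mem_bot).1 ?_)
    rw [← Nat.find_spec hex, hm, derivedSeries_succ]
    exact commutator_mem_commutator a.2 b.2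

/-- CA-groups with solvable proper subgroups and prime automizers of the maximal abelian
subgroups. -/
theorem selfNorm_of_ca [Finite G] [IsSimpleGroup G]
    (hCA : ∀ g : G, g ≠ 1 → IsMulCommutative (centralizer ({g} : Set G)))
    (hidx : ∀ g : G, g ≠ 1 → ((centralizer ({g} : Set G)).relIndex
      (normalizer (centralizer ({g} : Set G) : Set G))).Prime)
    (hsolv : ∀ H : Subgroup G, H ≠ ⊤ → Group.IsSolvable H) : SelfNorm G := by
  intro H hH
  set N := normalizer (H : Set G) with hN
  have hHN : H ≤ N := le_normalizer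
  by_cases htop : N = ⊤
  · rcases (normalizer_eq_top_iff.1 htop).eq_bot_or_eq_top with h | h
    · exact absurd (by rw [h]; exact ⟨⟨fun a b => Subsingleton.elim _ _⟩⟩) hH
    · rw [htop, h]
  haveI := hsolv N htop
  haveI : Nontrivial N := by
    rw [nontrivial_iff_ne_bot]
    intro h
    rw [h, le_bot_iff] at hHN
    exact hH (by rw [hHN]; exact ⟨⟨fun a b => Subsingleton.elim _ _⟩⟩)
  obtain ⟨A, hAn, hA1, hAc⟩ := exists_abelian_normal N
  obtain ⟨a, haA, ha⟩ := (bot_or_exists_ne_one A).resolve_left hA1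
  have ha' : (a : G) ≠ 1 := fun e => ha (Subtype.ext e)
  set T := centralizer ({(a : G)} : Set G) with hT
  have hTc := hCA _ ha'
  have haT : (a : G) ∈ T := mem_centralizer_singleton_iff.2 rfl
  -- `T` is the centraliser of each of its nontrivial elements
  have hTeq : ∀ m ∈ T, m ≠ 1 → ∀ y, Commute y m → y ∈ T := fun m hm hm1 y hy =>
    mem_centralizer_singleton_iff.2 (comm_of_mem (hCA m hm1) (mem_centralizer_singleton_iff.2 hy.eq)
      (mem_centralizer_singleton_iff.2 (mem_centralizer_singleton_iff.1 hm).symm))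
  have hNT : N ≤ normalizer (T : Set G) := by
    have key : ∀ w : N, ∀ y ∈ T, (w : G) * y * (w : G)⁻¹ ∈ T := by
      intro w y hy
      have hwa : w⁻¹ * a * w ∈ A := by simpa using hAn.conj_mem a haA w⁻¹
      have hwaT : ((w⁻¹ * a * w : N) : G) ∈ T := mem_centralizer_singleton_iff.2
        (congrArg Subtype.val (comm_of_mem hAc hwa haA))
      have h1 : y * ((w⁻¹ * a * w : N) : G) = ((w⁻¹ * a * w : N) : G) * y :=
        comm_of_mem hTc hy hwaT
      refine mem_centralizer_singleton_iff.2 ?_
      have h2 : y * ((w : G)⁻¹ * a * w) = ((w : G)⁻¹ * a * w) * y := h1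
      calc (w : G) * y * (w : G)⁻¹ * a = w * (y * ((w : G)⁻¹ * a * w)) * (w : G)⁻¹ := by group
        _ = w * (((w : G)⁻¹ * a * w) * y) * (w : G)⁻¹ := by rw [h2]
        _ = a * ((w : G) * y * (w : G)⁻¹) := by group
    intro w hw
    rw [mem_normalizer_iff]
    intro y
    refine ⟨key ⟨w, hw⟩ y, fun h => ?_⟩
    have h1 := key ⟨w⁻¹, inv_mem hw⟩ _ h
    rwa [show w⁻¹ * (w * y * w⁻¹) * w⁻¹⁻¹ = y by group] at h1
  set M : Subgroup G := T ⊓ N with hM
  have hMidx : (M.relIndex N).Prime := by
    haveI : (T.subgroupOf (normalizer (T : Set G))).Normal := Subgroup.normal_in_normalizer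
    have h1 : T.relIndex N ∣ T.relIndex (normalizer (T : Set G)) := by
      rw [← relIndex_subgroupOf hNT]
      exact relIndex_dvd_index_of_normal _ _
    rw [hM, inf_relIndex_right]
    rcases (Nat.dvd_prime (hidx _ ha')).1 h1 with h | h
    · exact absurd (isMulCommutative_of_le (hHN.trans (relIndex_eq_one.1 h)) hTc) hH
    · rw [h]; exact hidx _ ha'
  obtain ⟨y, hy, hyT⟩ : ∃ y ∈ H, y ∉ T := by
    by_contra hall
    push Not at hall
    exact hH (isMulCommutative_of_le hall hTc)
  have hmem : ∀ m ∈ M, m * y * m⁻¹ * y⁻¹ ∈ M ∧ m * y * m⁻¹ * y⁻¹ ∈ H := by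
    intro m hm
    refine ⟨?_, mul_mem ((mem_normalizer_iff.1 hm.2 y).1 hy) (inv_mem hy)⟩
    rw [show m * y * m⁻¹ * y⁻¹ = m * (y * m⁻¹ * y⁻¹) by group]
    exact mul_mem hm (Subgroup.mem_inf.2 ⟨(mem_normalizer_iff.1 (hNT (hHN hy)) _).1 (T.inv_mem hm.1),
      mul_mem (mul_mem (hHN hy) (N.inv_mem hm.2)) (N.inv_mem (hHN hy))⟩)
  let f : M → M := fun m => ⟨m * y * m⁻¹ * y⁻¹, (hmem m m.2).1⟩
  have hf : Function.Injective f := by
    rintro ⟨m, hm⟩ ⟨m', hm'⟩ he
    have he' : m * y * m⁻¹ * y⁻¹ = m' * y * m'⁻¹ * y⁻¹ := congrArg Subtype.val he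
    have h1 : m * y * m⁻¹ = m' * y * m'⁻¹ := mul_right_cancel he'
    apply Subtype.ext
    show m = m'
    by_contra hne'
    refine hyT (hTeq (m'⁻¹ * m) (mul_mem (inv_mem hm'.1) hm.1)
      (fun e => hne' (inv_mul_eq_one.1 e).symm) y ?_)
    show y * (m'⁻¹ * m) = m'⁻¹ * m * y
    calc y * (m'⁻¹ * m) = m'⁻¹ * (m' * y * m'⁻¹) * m := by group
      _ = m'⁻¹ * (m * y * m⁻¹) * m := by rw [h1]
      _ = m'⁻¹ * m * y := by group
  have hMH : M ≤ H := fun v hv => by
    obtain ⟨m, hm⟩ := (Finite.injective_iff_surjective.1 hf) ⟨v, hv⟩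
    have : (m : G) * y * (m : G)⁻¹ * y⁻¹ = v := congrArg Subtype.val hm
    exact this ▸ (hmem m m.2).2
  refine le_antisymm ?_ hHN
  have h2 := relIndex_mul_relIndex M H N hMH hHN
  rcases (Nat.dvd_prime hMidx).1 (Dvd.intro_left _ h2) with h | h
  · exact relIndex_eq_one.1 h
  · exfalso
    rw [h] at h2
    have h3 : M.relIndex H = 1 := Nat.eq_of_mul_eq_mul_right hMidx.pos (h2.trans (one_mul _).symm)
    exact hyT ((relIndex_eq_one.1 h3) hy).1

end Cfsg.Agent.SelfNormNonabelian
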