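import Cfsg.Agent.Lib.SelfNormNonabelian.Basic
import Mathlib.GroupTheory.Index
import Mathlib.GroupTheory.SpecificGroups.Cyclic
import Mathlib.GroupTheory.QuotientGroup.Basic

/-!
Small general facts used for groups with self-normalizing nonabelian subgroups.
-/

set_option autoImplicit false
set_option linter.style.haveILetI false

namespace Cfsg.Agent.SelfNormNonabelian

open Subgroup
open scoped commutatorElement

/-- A nontrivial finite solvable group has a maximal subgroup that is normal of prime index. -/
theorem exists_maximal_normal {G : Type*} [Group G] [Finite G] [Group.IsSolvable G] [Nontrivial G] :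
    ∃ M : Subgroup G, M.Normal ∧ M.index.Prime ∧ IsCoatom M := by
  have hne : commutator G ≠ ⊤ := (Group.IsSolvable.commutator_lt_top_of_nontrivial G).ne
  obtain ⟨K, hK, hle⟩ := (eq_top_or_exists_le_coatom (commutator G)).resolve_left hne
  haveI hn : K.Normal := Subgroup.Normal.of_commutator_le G hle
  haveI hnt : Nontrivial (G ⧸ K) := QuotientGroup.nontrivial_iff.2 hK.1
  haveI : IsSimpleGroup (G ⧸ K) := ⟨fun L _ => by
    rcases eq_or_lt_of_le ((QuotientGroup.ker_mk' K).ge.trans (Subgroup.comap_mono (bot_le (a := L))))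
      with h | h
    · left
      rw [← Subgroup.map_comap_eq_self_of_surjective (QuotientGroup.mk'_surjective K) L, ← h]
      exact QuotientGroup.map_mk'_self K
    · right
      rw [← Subgroup.map_comap_eq_self_of_surjective (QuotientGroup.mk'_surjective K) L,
        hK.2 _ h, Subgroup.map_top_of_surjective _ (QuotientGroup.mk'_surjective K)]⟩
  letI : CommGroup (G ⧸ K) :=
    { (inferInstance : Group (G ⧸ K)) with
      mul_comm := fun a b => by
        obtain ⟨a, rfl⟩ := QuotientGroup.mk_surjective a
        obtain ⟨b, rfl⟩ := QuotientGroup.mk_surjective b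
        rw [← commutatorElement_eq_one_iff_mul_comm, ← QuotientGroup.mk'_apply,
          ← QuotientGroup.mk'_apply, ← map_commutatorElement, QuotientGroup.mk'_apply,
          QuotientGroup.eq_one_iff]
        exact hle (Subgroup.commutator_mem_commutator (Subgroup.mem_top a) (Subgroup.mem_top b)) }
  exact ⟨K, hn, by rw [Subgroup.index_eq_card]; exact IsSimpleGroup.prime_card, hK⟩

/-- Normalizers grow in `p`-groups. -/
theorem exists_mem_normalizer {G : Type*} [Group G] [Finite G] {p : ℕ} [Fact p.Prime]
    {R P : Subgroup G} (hP : IsPGroup p P) (h : R < P) :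
    ∃ x ∈ P, x ∈ normalizer (R : Set G) ∧ x ∉ R := by
  have := hP.isNilpotent
  have hlt : R.subgroupOf P < ⊤ := lt_top_iff_ne_top.2 fun e => h.not_ge (subgroupOf_eq_top.1 e)
  obtain ⟨x, hx, hxR⟩ := SetLike.exists_of_lt (Group.normalizerCondition_of_isNilpotent _ hlt)
  rw [← subgroupOf_normalizer_eq h.le] at hx
  exact ⟨x, x.2, hx, hxR⟩

/-- Subgroups of coprime orders meet trivially. -/
theorem inf_eq_bot' {G : Type*} [Group G] {H K : Subgroup G}
    (h : (Nat.card H).Coprime (Nat.card K)) : H ⊓ K = ⊥ :=
  Subgroup.card_eq_one.1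
    (Nat.eq_one_of_dvd_coprimes h (card_dvd_of_le inf_le_left) (card_dvd_of_le inf_le_right))

theorem mem_normalizer_sup' {G : Type*} [Group G] {A B : Subgroup G} {y : G}
    (hA : y ∈ normalizer (A : Set G)) (hB : y ∈ normalizer (B : Set G)) :
    y ∈ normalizer ((A ⊔ B : Subgroup G) : Set G) := by
  rw [mem_normalizer_iff_map_conj_eq] at hA hB ⊢
  rw [Subgroup.map_sup, hA, hB]

end Cfsg.Agent.SelfNormNonabelian
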