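import Cfsg.Agent.Lib.SelfNormNonabelian.Basic
import Cfsg.Agent.Lib.SelfNormNonabelian.Solvable
import Cfsg.Agent.Lib.Transfer.FocalLocal
import Cfsg.Agent.Lib.PSL2.ThreeSizes.Basic
import Cfsg.Agent.Lib.OddOrder.CNGroup
import Cfsg.Agent.Lib.CharInt.BrauerSuzuki
import Cfsg.Agent.S4072

/-!
# Simple groups with self-normalising non-abelian subgroups

The Sylow subgroups are abelian (focal subgroup theorem), hence the centralisers are abelian
(transfer).
-/

set_option autoImplicit false
set_option linter.style.haveILetI false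

namespace Cfsg.Agent.SelfNormNonabelian

open Subgroup
open scoped commutatorElement MatrixGroups

universe u

variable {G : Type u} [Group G]

theorem selfNorm_subgroup (hS : SelfNorm G) (K : Subgroup G) : SelfNorm K := by
  intro H hH
  refine le_antisymm (fun x hx => ?_) le_normalizer
  have hmap : ¬ IsMulCommutative ↥(H.map K.subtype) := fun h => hH ⟨⟨fun a b =>
    Subtype.ext (Subtype.ext (comm_of_mem h (mem_map_of_mem K.subtype a.2)
      (mem_map_of_mem K.subtype b.2)))⟩⟩
  have hx' : (x : G) ∈ normalizer ((H.map K.subtype : Subgroup G) : Set G) := by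
    rw [mem_normalizer_iff]
    intro h
    constructor
    · rintro ⟨k, hk, rfl⟩
      exact ⟨x * k * x⁻¹, (mem_normalizer_iff.1 hx k).1 hk, rfl⟩
    · rintro ⟨k, hk, he⟩
      refine ⟨x⁻¹ * k * x, ?_, ?_⟩
      · have := (mem_normalizer_iff.1 (inv_mem hx) k).1 hk
        rwa [inv_inv] at this
      · change (x : G)⁻¹ * (k : G) * x = h
        change (k : G) = _ at he
        rw [he]; group
  rw [hS _ hmap] at hx'
  obtain ⟨k, hk, he⟩ := hx'
  rwa [Subtype.ext he] at hk

variable [Finite G]

/-- In a group with a self-normalising non-abelian `p`-subgroup `P` its proper subgroups commute. -/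
theorem proper_comm (hS : SelfNorm G) {p : ℕ} [Fact p.Prime] {P Q : Subgroup G} (hP : IsPGroup p P)
    (h : Q < P) : IsMulCommutative Q := by
  by_contra hQ
  obtain ⟨x, -, hx, hxQ⟩ := exists_mem_normalizer hP h
  exact hxQ (hS Q hQ ▸ hx)

/-- The proper normal subgroups of `N(D)` containing `C(D)` coincide with it. -/
theorem eq_of_normal_le (hS : SelfNorm G) {K D : Subgroup G} (hDK : D ≤ K)
    (hD : IsMulCommutative D) {M : Subgroup K} (hM : M.Normal) (hMne : M ≠ ⊤)
    (hle : (centralizer (D : Set G)).subgroupOf K ≤ M) :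
    M = (centralizer (D : Set G)).subgroupOf K := by
  refine le_antisymm (fun m hm => ?_) hle
  have hMc := normal_abelian (selfNorm_subgroup hS K) hM hMne
  refine mem_subgroupOf.2 (mem_centralizer_iff.2 fun d hd => ?_)
  have hdM : (⟨d, hDK hd⟩ : K) ∈ M :=
    hle (mem_subgroupOf.2 (mem_centralizer_iff.2 fun e he => comm_of_mem hD he hd))
  exact congrArg Subtype.val (comm_of_mem hMc hdM hm)

/-- The Sylow `p`-subgroups are abelian for `p = 2`, or if the proper subgroups are solvable. -/
theorem sylow_comm [IsSimpleGroup G] (hS : SelfNorm G) (hne : ¬ ∀ a b : G, a * b = b * a)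
    {p : ℕ} [hp : Fact p.Prime] (hq : p = 2 ∨ ∀ K : Subgroup G, K ≠ ⊤ → Group.IsSolvable K)
    (P : Sylow p G) : IsMulCommutative (P : Subgroup G) := by
  by_contra hP
  have hNP : normalizer ((P : Subgroup G) : Set G) = (P : Subgroup G) := hS _ hP
  set T : Subgroup G := ⁅(P : Subgroup G), (P : Subgroup G)⁆ with hTdef
  have hPP : ∀ q ∈ (P : Subgroup G), ∀ a ∈ (P : Subgroup G), a⁻¹ * (q⁻¹ * a * q) ∈ T := by
    intro q hq a ha
    rw [show a⁻¹ * (q⁻¹ * a * q) = ⁅a⁻¹, q⁻¹⁆ by rw [commutatorElement_def]; group]
    exact commutator_mem_commutator (inv_mem ha) (inv_mem hq)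
  have hfoc : (P : Subgroup G).focalSubgroup ≤ T := by
    refine Transfer.focalSubgroup_le_of_local P T (fun x hx a ha => hPP x (hNP ▸ hx) a ha)
      fun D hD x hx hxp a ha => ?_
    by_cases hcent : x ∈ centralizer (D : Set G)
    · rw [show x⁻¹ * a * x = a by rw [mul_assoc, mem_centralizer_iff.1 hcent a ha, inv_mul_cancel_left],
        inv_mul_cancel]
      exact one_mem _
    obtain ⟨Q, hQD, hPn, -⟩ := hD
    have hDP : D ≤ (P : Subgroup G) := hQD ▸ inf_le_left
    by_cases hDeq : D = (P : Subgroup G)
    · subst hDeq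
      exact hPP x (hNP ▸ hx) a ha
    have hDlt : D < (P : Subgroup G) := lt_of_le_of_ne hDP hDeq
    have hDc : IsMulCommutative D := proper_comm hS P.isPGroup' hDlt
    have hD1 : D ≠ ⊥ := fun e => hcent (mem_centralizer_iff.2 fun d hd => by
      rw [e] at hd; obtain rfl : d = 1 := hd; rw [one_mul, mul_one])
    set K := normalizer (D : Set G) with hK
    have hDK : D ≤ K := le_normalizer
    have hKne : K ≠ ⊤ := by
      intro e
      rcases (normalizer_eq_top_iff.1 e).eq_bot_or_eq_top with h | h
      · exact hD1 h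
      · exact hDeq (le_antisymm hDP (h ▸ le_top))
    obtain ⟨i, hi⟩ := hxp
    obtain ⟨S, hxS⟩ := (IsPGroup.of_card (n := i) (by rw [Nat.card_zpowers, orderOf_mk, hi]) :
      IsPGroup p (zpowers (⟨x, hx⟩ : K))).exists_le_sylow
    set C := (centralizer (D : Set G)).subgroupOf K with hC
    haveI hCn : C.Normal := by
      refine ⟨fun c hc k => mem_subgroupOf.2 (mem_centralizer_iff.2 fun d hd => ?_)⟩
      have hd' : (k : G)⁻¹ * d * k ∈ D := by
        have := (mem_normalizer_iff.1 (inv_mem k.2) d).1 hd
        rwa [inv_inv] at this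
      have h1 := mem_centralizer_iff.1 (mem_subgroupOf.1 hc) _ hd'
      show d * ((k : G) * c * (k : G)⁻¹) = (k : G) * c * (k : G)⁻¹ * d
      calc d * ((k : G) * c * (k : G)⁻¹) = k * ((k : G)⁻¹ * d * k * c) * (k : G)⁻¹ := by group
        _ = k * ((c : G) * ((k : G)⁻¹ * d * k)) * (k : G)⁻¹ := by rw [h1]
        _ = (k : G) * c * (k : G)⁻¹ * d := by group
    set R : Subgroup G := (P : Subgroup G) ⊓ K with hR
    -- `P ∩ K` is a Sylow subgroup of `K`
    have hRp : IsPGroup p (R.subgroupOf K) :=
      (P.isPGroup'.to_le inf_le_left).comap_subtype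
    set RK : Sylow p K := hRp.toSylow hPn with hRK
    obtain ⟨g, hg⟩ := MulAction.exists_smul_eq K RK S
    have hxC : (⟨x, hx⟩ : K) ∉ C := fun h => hcent (mem_subgroupOf.1 h)
    by_cases hPK : (P : Subgroup G) ≤ K
    swap
    · -- then `P ∩ K` is commutative and the `p`-elements of `K` centralise `D`
      exfalso
      have hRc : IsMulCommutative R := proper_comm hS P.isPGroup'
        (lt_of_le_of_ne inf_le_left fun e => hPK (e.ge.trans inf_le_right))
      have hRC : (RK : Subgroup K) ≤ C := fun r hr => mem_subgroupOf.2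
        (mem_centralizer_iff.2 fun d hd =>
          comm_of_mem hRc ⟨hDP hd, hDK hd⟩ (mem_subgroupOf.1 hr))
      have hSC : (S : Subgroup K) ≤ C := by
        rw [← hg, Sylow.coe_subgroup_smul]
        rintro _ ⟨r, hr, rfl⟩
        exact hCn.conj_mem r (hRC hr) g
      exact hxC (hSC (hxS (mem_zpowers _)))
    have hRP : R = (P : Subgroup G) := inf_eq_left.2 hPK
    have hndC : ¬ (RK : Subgroup K) ≤ C := by
      intro hle
      have hSC : (S : Subgroup K) ≤ C := by
        rw [← hg, Sylow.coe_subgroup_smul]
        rintro _ ⟨r, hr, rfl⟩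
        exact hCn.conj_mem r (hle hr) g
      exact hxC (hSC (hxS (mem_zpowers _)))
    have hCne : C ≠ ⊤ := fun e => hxC (e ▸ mem_top _)
    have hidx : C.index = p := by
      let f := QuotientGroup.mk' C
      have hf : Function.Surjective f := QuotientGroup.mk'_surjective C
      have hmax : ∀ N : Subgroup (K ⧸ C), N.Normal → N ≠ ⊤ → N.comap f = C := by
        intro N hN hNne
        refine eq_of_normal_le hS hDK hDc inferInstance (fun e => hNne ?_) ?_
        · rw [← map_comap_eq_self_of_surjective hf N, e, map_top_of_surjective f hf]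
        · intro c hc
          rw [mem_comap, show f c = 1 from (QuotientGroup.eq_one_iff c).2 hc]
          exact one_mem N
      haveI : Nontrivial (K ⧸ C) := QuotientGroup.nontrivial_iff.2 hCne
      rcases hq with h2 | hsolv
      · subst h2
        set SQ := RK.mapSurjective hf with hSQ
        -- the image of the Sylow subgroup has order `2`
        have hA : Nat.card (SQ : Subgroup (K ⧸ C)) = 2 := by
          set A : Subgroup G := (P : Subgroup G) ⊓ centralizer (D : Set G) with hAdef
          have hAlt : A.subgroupOf (P : Subgroup G) ≠ ⊤ := fun e => hndC fun r hr =>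
            mem_subgroupOf.2 (subgroupOf_eq_top.1 e (mem_subgroupOf.1 hr).1).2
          obtain ⟨M, hM, hAM⟩ := (eq_top_or_exists_le_coatom _).resolve_left hAlt
          haveI hPn2 : Group.IsNilpotent (P : Subgroup G) := P.isPGroup'.isNilpotent
          haveI hMn : M.Normal :=
            Subgroup.NormalizerCondition.normal_of_coatom M Group.normalizerCondition_of_isNilpotent hM
          have hMc : IsMulCommutative ↥(M.map (P : Subgroup G).subtype) := by
            refine proper_comm hS P.isPGroup' (lt_of_le_of_ne (map_subtype_le M) fun e => hM.1 ?_)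
            rw [← comap_map_eq_self_of_injective (P : Subgroup G).subtype_injective M, e]
            exact eq_top_iff.2 fun z _ => z.2
          have hMA : A.subgroupOf (P : Subgroup G) = M := by
            refine le_antisymm hAM fun m hm => mem_subgroupOf.2 ⟨m.2, mem_centralizer_iff.2 fun d hd => ?_⟩
            exact comm_of_mem hMc ⟨⟨d, hDP hd⟩, hAM (mem_subgroupOf.2 ⟨hDP hd,
              mem_centralizer_iff.2 fun e he => comm_of_mem hDc he hd⟩), rfl⟩ ⟨m, hm, rfl⟩
          have hMidx : M.index = 2 := by
            haveI : Nontrivial ((P : Subgroup G) ⧸ M) := QuotientGroup.nontrivial_iff.2 hM.1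
            haveI : IsSimpleGroup ((P : Subgroup G) ⧸ M) := ⟨fun L _ => by
              rcases eq_or_lt_of_le ((QuotientGroup.ker_mk' M).ge.trans
                (Subgroup.comap_mono (bot_le (a := L)))) with h | h
              · left
                rw [← map_comap_eq_self_of_surjective (QuotientGroup.mk'_surjective M) L, ← h]
                exact QuotientGroup.map_mk'_self M
              · right
                rw [← map_comap_eq_self_of_surjective (QuotientGroup.mk'_surjective M) L, hM.2 _ h,
                  map_top_of_surjective _ (QuotientGroup.mk'_surjective M)]⟩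
            have hq2 : IsPGroup 2 ((P : Subgroup G) ⧸ M) := P.isPGroup'.to_quotient M
            haveI := hq2.center_nontrivial
            rw [index_eq_card]
            rcases (inferInstance : (center ((P : Subgroup G) ⧸ M)).Normal).eq_bot_or_eq_top with h | h
            · exact absurd h ((nontrivial_iff_ne_bot _).1 inferInstance)
            · letI : CommGroup ((P : Subgroup G) ⧸ M) :=
                { (inferInstance : Group ((P : Subgroup G) ⧸ M)) with
                  mul_comm := fun a b => mem_center_iff.1 (h ▸ mem_top b) a }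
              have hpr : (Nat.card ((P : Subgroup G) ⧸ M)).Prime := IsSimpleGroup.prime_card
              obtain ⟨k, hk⟩ := hq2.exists_card_eq
              rw [hk] at hpr ⊢
              rw [hpr.eq_one_of_pow, pow_one]
          rw [hSQ, Sylow.coe_mapSurjective]
          refine Eq.trans ?_ ((congrArg Subgroup.index hMA).trans hMidx)
          have hker : ((f.domRestrict (RK : Subgroup K))).ker = C.subgroupOf (RK : Subgroup K) := by
            ext r
            exact QuotientGroup.eq_one_iff (r : K)
          rw [← MonoidHom.domRestrict_range, ← index_ker, hker]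
          show C.relIndex (RK : Subgroup K) = A.relIndex (P : Subgroup G)
          show ((centralizer (D : Set G)).subgroupOf K).relIndex (R.subgroupOf K) = _
          rw [relIndex_subgroupOf inf_le_right, inf_eq_left.2 hPK, hAdef, inf_relIndex_left]
        haveI hcyc : IsCyclic (SQ : Subgroup (K ⧸ C)) := isCyclic_of_prime_card hA
        have h2d : 2 ∣ Nat.card (K ⧸ C) := hA ▸ card_subgroup_dvd_card _
        have hNC := hcyc.normalizer_le_centralizer ((Nat.minFac_eq_two_iff _).2 h2d)
        have hcompl := MonoidHom.ker_transferSylow_isComplement' SQ hNC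
        have hNne : (MonoidHom.transferSylow SQ hNC).ker ≠ ⊤ := fun e => by
          have := MonoidHom.not_dvd_card_ker_transferSylow SQ hNC
          rw [e, card_top] at this
          exact this h2d
        rw [← hmax _ inferInstance hNne, index_comap_of_surjective _ hf, hcompl.symm.index_eq_card, hA]
      · haveI := hsolv K hKne
        haveI : Group.IsSolvable (K ⧸ C) := Group.isSolvable_of_surjective hf
        obtain ⟨N, hNn, hNp, hNc⟩ := exists_maximal_normal (G := K ⧸ C)
        have h1 : C.index = N.index :=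
          (congrArg Subgroup.index (hmax N hNn hNc.1)).symm.trans (index_comap_of_surjective _ hf)
        obtain ⟨z, hz, hzC⟩ := SetLike.not_le_iff_exists.1 hndC
        obtain ⟨k, hk⟩ := (IsPGroup.iff_orderOf.1 RK.isPGroup') ⟨z, hz⟩
        rw [Subgroup.orderOf_mk] at hk
        have hd : orderOf (f z) ∣ p ^ k := hk ▸ orderOf_map_dvd f z
        have hd' : orderOf (f z) ∣ C.index := by rw [index_eq_card]; exact orderOf_dvd_natCard _
        obtain ⟨j, -, hj⟩ := (Nat.dvd_prime_pow hp.out).1 hd
        rw [h1] at hd' ⊢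
        rcases (Nat.dvd_prime hNp).1 hd' with h | h
        · exact absurd ((QuotientGroup.eq_one_iff z).1 (orderOf_eq_one_iff.1 h)) hzC
        · rw [hj] at h
          rw [← h] at hNp ⊢
          rw [hNp.eq_one_of_pow, pow_one]
    -- so `K = C(D) P`
    have htop : C ⊔ (RK : Subgroup K) = ⊤ := by
      rw [← index_eq_one]
      rcases (Nat.dvd_prime hp.out).1 (hidx ▸ index_dvd_of_le (le_sup_left : C ≤ C ⊔ (RK : Subgroup K))) with h | h
      · exact h
      · exfalso
        refine hndC ?_
        have hrel := relIndex_mul_index (le_sup_left : C ≤ C ⊔ (RK : Subgroup K))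
        rw [h, hidx] at hrel
        have h1 : C.relIndex (C ⊔ (RK : Subgroup K)) = 1 :=
          Nat.eq_of_mul_eq_mul_right hp.out.pos (hrel.trans (one_mul _).symm)
        exact le_sup_right.trans (relIndex_eq_one.1 h1)
    obtain ⟨c, hc, q, hq, hcq⟩ := mem_sup_of_normal_left.1
      (htop ▸ mem_top (⟨x, hx⟩ : K) : (⟨x, hx⟩ : K) ∈ C ⊔ (RK : Subgroup K))
    have hxe : x = (c : G) * q := (congrArg Subtype.val hcq).symm
    have hcen := mem_centralizer_iff.1 (mem_subgroupOf.1 hc) a ha
    rw [show x⁻¹ * a * x = (q : G)⁻¹ * a * q by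
      rw [hxe, show ((c : G) * q)⁻¹ * a * ((c : G) * q) = (q : G)⁻¹ * ((c : G)⁻¹ * (a * c)) * q by group,
        hcen, inv_mul_cancel_left]]
    exact hPP q (mem_subgroupOf.1 hq).1 a (hDP ha)
  -- `G` is perfect
  have hperf : commutator G = ⊤ := by
    rcases (inferInstance : (commutator G).Normal).eq_bot_or_eq_top with h | h
    · exfalso
      refine hne fun a b => commutatorElement_eq_one_iff_mul_comm.1 ?_
      rw [← mem_bot, ← h, _root_.commutator_def]
      exact commutator_mem_commutator (mem_top a) (mem_top b)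
    · exact h
  have hPT : (P : Subgroup G) ≤ T := by
    refine le_trans ?_ hfoc
    rw [← commutator_inf_eq_focalSubgroup, hperf]
    exact le_inf le_top le_rfl
  haveI : Group.IsNilpotent (P : Subgroup G) := P.isPGroup'.isNilpotent
  haveI : Nontrivial (P : Subgroup G) := by
    by_contra h
    rw [not_nontrivial_iff_subsingleton] at h
    exact hP ⟨⟨fun a b => Subsingleton.elim _ _⟩⟩
  refine (Group.IsSolvable.commutator_lt_top_of_nontrivial (P : Subgroup G)).ne ?_
  rw [← comap_map_eq_self_of_injective (P : Subgroup G).subtype_injective (commutator _),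
    map_subtype_commutator]
  exact eq_top_iff.2 fun z _ => hPT z.2

/-- With an abelian non-cyclic Sylow `p`-subgroup, elements of order `p` have abelian
centralisers; a cyclic one is impossible as well. -/
theorem cent_comm [IsSimpleGroup G] (hS : SelfNorm G) (hne : ¬ ∀ a b : G, a * b = b * a)
    {p : ℕ} [hp : Fact p.Prime] (hP : ∀ P : Sylow p G, IsMulCommutative (P : Subgroup G))
    {x : G} (hx : orderOf x = p) : IsMulCommutative (centralizer ({x} : Set G)) := by
  classical
  by_contra hKc
  set K := centralizer ({x} : Set G) with hK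
  have hSK := selfNorm_subgroup hS K
  have hKnc : ¬ ∀ a b : K, a * b = b * a := fun h => hKc ⟨⟨h⟩⟩
  have hxK : x ∈ K := mem_centralizer_singleton_iff.2 rfl
  set e : K := ⟨x, hxK⟩ with he
  have heZ : e ∈ center K := mem_center_iff.2 fun g =>
    Subtype.ext (mem_centralizer_singleton_iff.1 g.2)
  have heo : orderOf e = p := by rw [he, orderOf_mk, hx]
  obtain ⟨S⟩ := (inferInstance : Nonempty (Sylow p K))
  obtain ⟨T, hT⟩ := (S.isPGroup'.map K.subtype).exists_le_sylow
  have hSc : ∀ a ∈ (S : Subgroup K), ∀ b ∈ (S : Subgroup K), a * b = b * a := fun a ha b hb =>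
    Subtype.ext (comm_of_mem (hP T) (hT (mem_map_of_mem _ ha)) (hT (mem_map_of_mem _ hb)))
  have hem : e ∉ commutator K := fun h =>
    PSL2.AbInv.eq_one_of_central_of_mem_commutator S hSc heo heZ h
  -- the subgroup generated by `K'` and the `p'`-elements
  set O : Subgroup K := commutator K ⊔ closure {v : K | (orderOf v).Coprime p} with hO
  have hOn : O.Normal := Subgroup.Normal.of_commutator_le K le_sup_left
  have hOne : O ≠ ⊤ := by
    intro h
    refine hem ((QuotientGroup.eq_one_iff e).1 ?_)
    let g := QuotientGroup.mk' (commutator K)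
    have hle : O ≤ (⊤ : Subgroup K) ⊓ ((powMonoidHom (α := Abelianization K)
        (Nat.card (Abelianization K) / p ^ (Nat.card (Abelianization K)).factorization p)).ker).comap g := by
      refine le_inf le_top (sup_le ?_ ((closure_le _).2 fun v hv => ?_))
      · intro c hc
        show (g c : Abelianization K) ^ _ = 1
        rw [show g c = 1 from (QuotientGroup.eq_one_iff c).2 hc]
        exact one_pow _
      · show (g v : Abelianization K) ^ _ = 1
        refine orderOf_dvd_iff_pow_eq_one.1 ?_
        have h1 : orderOf (g v) ∣ orderOf v := orderOf_map_dvd g v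
        have h2 : orderOf (g v) ∣ Nat.card (Abelianization K) := orderOf_dvd_natCard _
        have h3 : (orderOf (g v)).Coprime (p ^ (Nat.card (Abelianization K)).factorization p) :=
          (Nat.Coprime.coprime_dvd_left h1 hv).pow_right _
        rw [← Nat.ordProj_mul_ordCompl_eq_self (Nat.card (Abelianization K)) p] at h2
        exact h3.dvd_of_dvd_mul_left h2
    have h4 : (g e : Abelianization K) ^ (Nat.card (Abelianization K) /
        p ^ (Nat.card (Abelianization K)).factorization p) = 1 := (hle (h ▸ mem_top e)).2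
    have h5 : orderOf (g e) ∣ p := heo ▸ orderOf_map_dvd g e
    have h6 := orderOf_dvd_of_pow_eq_one h4
    refine orderOf_eq_one_iff.1 (Nat.eq_one_of_dvd_coprimes ?_ h5 h6)
    exact Nat.coprime_ordCompl hp.out (Nat.card_pos (α := Abelianization K)).ne'
  have hOc : IsMulCommutative O := normal_abelian hSK hOn hOne
  -- the `p'`-elements form an abelian normal subgroup
  have hcomm : ∀ v w : K, (orderOf v).Coprime p → (orderOf w).Coprime p → Commute v w :=
    fun v w hv hw => comm_of_mem hOc (le_sup_right (a := commutator K) (subset_closure hv))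
      (le_sup_right (a := commutator K) (subset_closure hw))
  let V : Subgroup K :=
    { carrier := {v | (orderOf v).Coprime p}
      one_mem' := by show Nat.Coprime (orderOf (1 : K)) p; rw [orderOf_one]; exact Nat.coprime_one_left _
      mul_mem' := fun {v w} hv hw => Nat.Coprime.coprime_dvd_left
        (hcomm v w hv hw).orderOf_mul_dvd_lcm
        (Nat.Coprime.coprime_dvd_left (Nat.lcm_dvd_mul _ _) (Nat.Coprime.mul_left hv hw))
      inv_mem' := fun {v} hv => by show Nat.Coprime (orderOf v⁻¹) p; rwa [orderOf_inv] }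
  haveI hVn : V.Normal := ⟨fun v hv g => by
    show Nat.Coprime (orderOf (g * v * g⁻¹)) p
    rw [show g * v * g⁻¹ = MulAut.conj g v from rfl, MulEquiv.orderOf_eq]; exact hv⟩
  have hVS : V ⊔ (S : Subgroup K) = ⊤ := by
    rw [← index_eq_one]
    by_contra h1
    obtain ⟨r, hr, hrd⟩ := Nat.exists_prime_and_dvd h1
    haveI := Fact.mk hr
    by_cases hrp : r = p
    · subst hrp
      exact S.not_dvd_index (hrd.trans (index_dvd_of_le le_sup_right))
    · obtain ⟨R⟩ := (inferInstance : Nonempty (Sylow r K))
      have hRV : (R : Subgroup K) ≤ V := fun v hv => by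
        obtain ⟨k, hk⟩ := (IsPGroup.iff_orderOf.1 R.isPGroup') ⟨v, hv⟩
        rw [orderOf_mk] at hk
        show Nat.Coprime (orderOf v) p
        rw [hk]; exact Nat.Coprime.pow_left _ ((Nat.coprime_primes hr hp.out).2 hrp)
      exact R.not_dvd_index (hrd.trans (index_dvd_of_le (hRV.trans le_sup_left)))
  have hKV : commutator K ≤ V :=
    Subgroup.Normal.commutator_le_of_self_sup_commutative_eq_top hVS
      ⟨⟨fun a b => Subtype.ext (hSc a a.2 b b.2)⟩⟩
  have hVS1 : ∀ v, v ∈ V → v ∈ (S : Subgroup K) → v = 1 := fun v hv hvS => by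
    obtain ⟨k, hk⟩ := (IsPGroup.iff_orderOf.1 S.isPGroup') ⟨v, hvS⟩
    rw [orderOf_mk] at hk
    have h1 : (orderOf v).Coprime p := hv
    exact orderOf_eq_one_iff.1 (Nat.eq_one_of_dvd_coprimes (h1.pow_right k) dvd_rfl (hk ▸ dvd_rfl))
  -- some element of `S` generates it modulo `V`
  obtain ⟨s, hs, hstop⟩ : ∃ s ∈ (S : Subgroup K), V ⊔ zpowers s = ⊤ := by
    by_contra hall
    push Not at hall
    have hVc : ∀ s ∈ (S : Subgroup K), ∀ v ∈ V, Commute v s := fun s hs v hv =>
      comm_of_mem (normal_abelian hSK (Subgroup.Normal.of_commutator_le K (hKV.trans le_sup_left))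
        (hall s hs)) (mem_sup_left hv) (mem_sup_right (mem_zpowers s))
    refine hKnc fun a b => ?_
    obtain ⟨v, hv, s, hs, rfl⟩ := mem_sup_of_normal_left.1 (hVS ▸ mem_top a : a ∈ V ⊔ (S : Subgroup K))
    obtain ⟨w, hw, t, ht, rfl⟩ := mem_sup_of_normal_left.1 (hVS ▸ mem_top b : b ∈ V ⊔ (S : Subgroup K))
    exact ((Commute.mul_right (hcomm v w hv hw) (hVc t ht v hv)).mul_left
      ((hVc s hs w hw).symm.mul_right (hSc s hs t ht))).eq
  have hScyc : (S : Subgroup K) = zpowers s := by
    refine le_antisymm (fun t ht => ?_) (zpowers_le.2 hs)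
    obtain ⟨v, hv, u, hu, hvu⟩ := mem_sup_of_normal_left.1
      (hstop ▸ mem_top t : t ∈ V ⊔ zpowers s)
    have hv1 := hVS1 v hv (by
      rw [show v = t * u⁻¹ by rw [← hvu]; group]
      exact mul_mem ht (inv_mem (zpowers_le.2 hs hu)))
    rw [← hvu, hv1, one_mul]; exact hu
  -- `S` is a Sylow subgroup of `G`
  have heS : e ∈ (S : Subgroup K) := by
    have hsup := S.2.to_sup_of_normal_left' (IsPGroup.of_card (n := 1)
      (by rw [Nat.card_zpowers, heo, pow_one]) : IsPGroup p (zpowers e)) (by
      rw [zpowers_le, mem_normalizer_iff]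
      intro g
      rw [← mem_center_iff.1 heZ g, mul_inv_cancel_right])
    exact (S.3 hsup le_sup_left).le (mem_sup_right (mem_zpowers e))
  have hxT : x ∈ (T : Subgroup G) := hT ⟨e, heS, rfl⟩
  have hTK : (T : Subgroup G) ≤ K := fun t ht =>
    mem_centralizer_singleton_iff.2 (comm_of_mem (hP T) ht hxT)
  have hTS : (T : Subgroup G).subgroupOf K = (S : Subgroup K) :=
    S.3 (T.isPGroup'.comap_subtype) fun s hs => mem_subgroupOf.2 (hT (mem_map_of_mem _ hs))
  haveI hTcyc : IsCyclic (T : Subgroup G) := by
    refine ⟨⟨⟨(s : G), hT (mem_map_of_mem _ hs)⟩, fun t => ?_⟩⟩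
    have ht : (⟨(t : G), hTK t.2⟩ : K) ∈ zpowers s := by
      rw [← hScyc, ← hTS]; exact mem_subgroupOf.2 t.2
    obtain ⟨i, hi⟩ := mem_zpowers_iff.1 ht
    refine mem_zpowers_iff.2 ⟨i, Subtype.ext ?_⟩
    simpa using congrArg Subtype.val hi
  have hNC : normalizer ((T : Subgroup G) : Set G) ≤ centralizer ((T : Subgroup G) : Set G) := by
    intro w hw
    have hwx : ∀ g : G, orderOf g = p → g ∈ (T : Subgroup G) → g ∈ zpowers x := by
      intro g hg hgT
      have h1 : zpowers (⟨g, hgT⟩ : (T : Subgroup G)) = zpowers (⟨x, hxT⟩ : (T : Subgroup G)) :=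
        CharInt.eq_of_card_eq_of_isCyclic (by rw [Nat.card_zpowers, Nat.card_zpowers, orderOf_mk, orderOf_mk, hg, hx])
      obtain ⟨i, hi⟩ := mem_zpowers_iff.1 (h1 ▸ mem_zpowers (⟨g, hgT⟩ : (T : Subgroup G)))
      exact mem_zpowers_iff.2 ⟨i, by simpa using congrArg Subtype.val hi⟩
    have hwK : w ∈ K := by
      rw [← hS K hKc, mem_normalizer_iff]
      have key : ∀ w ∈ normalizer ((T : Subgroup G) : Set G), ∀ g ∈ K, w * g * w⁻¹ ∈ K := by
        intro w hw g hg
        obtain ⟨i, hi⟩ := mem_zpowers_iff.1 (hwx (w⁻¹ * x * w)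
          (by rw [show w⁻¹ * x * w = MulAut.conj w⁻¹ x by simp, MulEquiv.orderOf_eq, hx])
          (by have := (mem_normalizer_iff.1 (inv_mem hw) x).1 hxT; rwa [inv_inv] at this))
        have hgi : Commute g (x ^ i) := Commute.zpow_right (mem_centralizer_singleton_iff.1 hg) i
        rw [hi] at hgi
        refine mem_centralizer_singleton_iff.2 ?_
        calc w * g * w⁻¹ * x = w * (g * (w⁻¹ * x * w)) * w⁻¹ := by group
          _ = w * ((w⁻¹ * x * w) * g) * w⁻¹ := by rw [hgi.eq]
          _ = x * (w * g * w⁻¹) := by group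
      intro g
      refine ⟨key w hw g, fun h => ?_⟩
      have := key w⁻¹ (inv_mem hw) _ h
      rwa [show w⁻¹ * (w * g * w⁻¹) * w⁻¹⁻¹ = g by group] at this
    refine mem_centralizer_iff.2 fun t ht => ?_
    have htK : t ∈ K := hTK ht
    have h1 : ⁅(⟨t, htK⟩ : K), (⟨w, hwK⟩ : K)⁆ = (1 : K) := hVS1 _ (hKV (by
      rw [_root_.commutator_def]; exact commutator_mem_commutator (mem_top _) (mem_top _))) (by
      rw [← hTS, mem_subgroupOf]
      show t * w * t⁻¹ * w⁻¹ ∈ (T : Subgroup G)
      rw [show t * w * t⁻¹ * w⁻¹ = t * (w * t⁻¹ * w⁻¹) by group]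
      exact mul_mem ht ((mem_normalizer_iff.1 hw _).1 (inv_mem ht)))
    exact congrArg Subtype.val (commutatorElement_eq_one_iff_mul_comm.1 h1)
  have hpG : p ∣ Nat.card G := hx ▸ orderOf_dvd_natCard x
  rcases (MonoidHom.normal_ker (MonoidHom.transferSylow T hNC)).eq_bot_or_eq_top with h | h
  · have hinj := (MonoidHom.ker_eq_bot_iff _).1 h
    exact hne fun a b => hinj (by rw [map_mul, map_mul]; exact (hP T).is_comm.comm _ _)
  · have h2 := MonoidHom.not_dvd_card_ker_transferSylow T hNC
    rw [h, card_top] at h2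
    exact h2 hpG

end Cfsg.Agent.SelfNormNonabelian
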